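import Cfsg.Agent.Lib.CosetEnum.U62Double.Iso
import Cfsg.Agent.Lib.CosetEnum.Fi22Norm.Table
import Cfsg.Agent.Lib.MinusSix.Main

/-!
# A perfect double cover of PSU(6, 2) is the centraliser of a transposition in Fi22
-/

set_option autoImplicit false
set_option maxRecDepth 100000
set_option linter.unusedSectionVars false
set_option maxHeartbeats 1000000

namespace Cfsg.Lib.CosetEnum.U62Double

open Cfsg.Spor
open U62Mult (Pres xgen rels pairRels relConj relCw relX relCox relHex)

theorem fiWords_lt (g : ℕ) : ∀ a ∈ fiWords.getD g [], a < 9 := by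
  intro a ha
  have h : fiWords.all (fun u => u.all fun a => Nat.blt a 9) = true := by decide +kernel
  by_cases hg : g < fiWords.length
  · rw [List.getD_eq_getElem _ _ hg] at ha
    simpa using List.all_eq_true.1 (List.all_eq_true.1 h _ (List.getElem_mem hg)) a ha
  · rw [List.getD_eq_default _ _ (by omega)] at ha
    simp at ha

theorem toFi_lt (w : List ℕ) : ∀ a ∈ toFi w, a < 9 := by
  intro a ha
  obtain ⟨g, -, hg⟩ := List.mem_flatMap.1 ha
  exact fiWords_lt g a hg

/-- The centraliser of a transposition of Fi22 has standard generators. -/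
theorem exists_centralizer_gens : ∃ T : Fi22Norm.Fi22Tab Spor.Fi22
    (conjugatesOf (Fi22Pres.numbering.gens Fi22.extra 0)),
    ∃ h : T.A.d ∈ Subgroup.centralizer ({T.A.d} : Set Spor.Fi22),
      ∃ R : Gens (Subgroup.centralizer ({T.A.d} : Set Spor.Fi22)) ⟨T.A.d, h⟩,
        wordVal R.y relX = 1 ∧ wordVal R.y relCw = ⟨T.A.d, h⟩ := by
  obtain ⟨A, hZ, hk, hp, hx, hd, hp0, hdne, hidx, -⟩ := Fi22Out.exists_table
  have hFi : Cfsg.IsFi22 Cfsg.Spor.Fi22 := Fi22Pres.isFi22
  have hsimple : IsSimpleGroup Cfsg.Spor.Fi22 := hFi.1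
  have hfin : Finite Cfsg.Spor.Fi22 := Nat.finite_of_card_ne_zero (by rw [hFi.2]; decide)
  have hcenter : Subgroup.center Cfsg.Spor.Fi22 = ⊥ := by
    refine ((Subgroup.center Cfsg.Spor.Fi22).normal_of_characteristic.eq_bot_or_eq_top).resolve_right fun h => ?_
    have hcen : Subgroup.centralizer ({A.d} : Set Cfsg.Spor.Fi22) = ⊤ := by
      rw [eq_top_iff]
      intro u _
      rw [Subgroup.mem_centralizer_singleton_iff]
      exact (Subgroup.mem_center_iff.1 (h ▸ Subgroup.mem_top A.d) u)
    rw [hcen, Subgroup.index_top] at hidx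
    omega
  let T : Fi22Norm.Fi22Tab Spor.Fi22 (conjugatesOf (Fi22Pres.numbering.gens Fi22.extra 0)) :=
    { A := A, hZ := hZ, hk := hk, hp := hp, base := ⟨by omega, hp0, hd⟩, class_eq := by rw [hd, hx],
      center := hcenter, card := by rw [hFi.2]; norm_num }
  have hval : ∀ w : List ℕ, (∀ a ∈ w, a < 9) → A.f (wordVal A.x w) = wordVal (tperm A.Z A.k 3510) w :=
    fun w hw => map_wordVal_tperm A.x A.f A.k_le A.f_gen (fun a ha => hk ▸ hw a ha)
  have htab : ∀ {R : List (List ℕ)} {r : List ℕ}, permOK Fi22U62.tabP 9 3510 R 3510 0 = true → r ∈ R →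
      (∀ a ∈ r, a < 9) → wordVal A.x r = 1 := by
    intro R r hR hr hlt
    apply A.inj
    rw [hval r hlt, map_one, hZ, hk]
    exact wordVal_tperm_eq_one hR (by decide) hr
  have hmem : ∀ g, wordVal A.x (fiWords.getD g []) ∈ Subgroup.centralizer ({A.d} : Set Spor.Fi22) := by
    intro g
    rw [Subgroup.mem_centralizer_singleton_iff]
    by_cases hg : g < fiWords.length
    · have h1 := htab (r := fiWords.getD g [] ++ [0] ++ (fiWords.getD g []).reverse ++ [0]) comm_ok
        (List.mem_map.2 ⟨_, by rw [List.getD_eq_getElem _ _ hg]; exact List.getElem_mem hg, rfl⟩)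
        (fun a ha => by
          simp only [List.mem_append, List.mem_reverse, List.mem_singleton] at ha
          rcases ha with ((h | h) | h) | h
          exacts [fiWords_lt g a h, by omega, fiWords_lt g a h, by omega])
      have hx0 : wordVal A.x [0] = A.d := by
        rw [hd, wordVal, wordVal, gen, if_neg (by simp only [eps]; omega), one_mul]
      rw [wordVal_append, wordVal_append, wordVal_append, wordVal_reverse A.sq, hx0] at h1
      set u := wordVal A.x (fiWords.getD g [])
      have h2 : A.d * A.d = 1 := by rw [hd, A.sq]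
      calc u * A.d = u * A.d * (A.d * (u⁻¹ * (A.d * u))) := by rw [h1, mul_one]
        _ = u * (A.d * A.d) * u⁻¹ * A.d * u := by group
        _ = A.d * u := by rw [h2, mul_one, mul_inv_cancel, one_mul]
    · rw [List.getD_eq_default _ _ (by omega)]
      simp [wordVal]
  set C0 := Subgroup.centralizer ({A.d} : Set Spor.Fi22)
  let y : ℕ → C0 := fun g => ⟨_, hmem g⟩
  have hy : ∀ r ∈ rels, ((wordVal y r : C0) : Spor.Fi22) = wordVal A.x (toFi r) := fun r hr => by
    rw [toFi, wordVal_flatMap A.x _ (rels_lt hr)]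
    exact (map_wordVal C0.subtype y r).trans (wordVal_congr (rels_lt hr) fun g _ => rfl)
  have hrX : wordVal y relX = 1 := Subtype.ext (by
    rw [hy _ rels_mem.1]
    exact htab fi_ok (List.mem_append_left _ (List.mem_map.2 ⟨relX, by simp, rfl⟩)) (toFi_lt _))
  have hrC : wordVal A.x (toFi relCw) = A.d := by
    have h1 := htab (r := toFi relCw ++ [0]) fi_ok (List.mem_append_right _ (by simp)) (fun a ha => by
      rcases List.mem_append.1 ha with h | h
      · exact toFi_lt _ a h
      · simp only [List.mem_singleton] at h; omega)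
    rw [wordVal_append, wordVal, wordVal, gen, if_neg (by simp only [eps]; omega), one_mul, ← hd] at h1
    have h2 : A.d * A.d = 1 := by rw [hd, A.sq]
    calc wordVal A.x (toFi relCw) = A.d * A.d * wordVal A.x (toFi relCw) := by rw [h2, one_mul]
      _ = A.d := by rw [mul_assoc, h1, mul_one]
  have hdC : A.d ∈ C0 := Subgroup.mem_centralizer_singleton_iff.2 rfl
  have hrC' : wordVal y relCw = ⟨A.d, hdC⟩ := Subtype.ext ((hy _ rels_mem.2.1).trans hrC)
  have hplain : ∀ r ∈ plainRels, wordVal y r = 1 := fun r hr => Subtype.ext (by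
    rw [hy r (plain_mem hr)]
    exact htab fi_ok (List.mem_append_left _ (List.mem_map.2 ⟨r, List.mem_append_left _ hr, rfl⟩)) (toFi_lt _))
  have hcard : Nat.card C0 = 2 * 9196830720 := by
    have := Subgroup.card_mul_index C0
    rw [hidx, hFi.2] at this
    omega
  -- the words generate
  let N := Fi22Pres.numbering
  have hK := N.map_closure Fi22.extra (Us := [Fi22.a, Fi22.c, Fi22.d, Fi22.e, Fi22.f, Fi22.g, Fi22.h, Fi22.i,
      (Fi22.a * Fi22.b * Fi22.c * Fi22.d * Fi22.e * Fi22.h) ^ 5])
    (U := Fi22U62.subWords)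
    (by simp [Fi22U62.subWords, wordVal, gen, eps, N, Fi22Pres.numbering, Fi22Pres.num, pow_succ, mul_assoc])
    (s := {Fi22.a, Fi22.c, Fi22.d, Fi22.e, Fi22.f, Fi22.g, Fi22.h, Fi22.i,
      (Fi22.a * Fi22.b * Fi22.c * Fi22.d * Fi22.e * Fi22.h) ^ 5})
    (by ext w; simp)
  obtain ⟨hH, -⟩ := Cfsg.Agent.S1687.result
  rw [hK, ← hx] at hH
  set H := Subgroup.closure (wordVal A.x '' {u | u ∈ Fi22U62.subWords})
  have hHy : H ≤ (Subgroup.closure (y '' {g | g < 8})).map C0.subtype := by
    rw [Subgroup.closure_le]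
    rintro _ ⟨u, hu, rfl⟩
    obtain ⟨i, hi, rfl⟩ := List.getElem_of_mem hu
    have hlen : Fi22U62.subWords.length = 9 := by decide +kernel
    rcases i with _ | i
    · refine ⟨wordVal y relCw, ?_, ?_⟩
      · have := wordVal_mem y (S := List.range 8) (u := relCw) fun g hg =>
          ⟨List.mem_range.2 (rels_lt rels_mem.2.1 g hg), by
            have := rels_lt rels_mem.2.1 g hg; simp only [eps]; omega⟩
        simp only [List.mem_range] at this; exact this
      · rw [hrC']
        have e : Fi22U62.subWords[0] = [0] := rfl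
        show A.d = _
        rw [e, hd, wordVal, wordVal, gen, if_neg (by simp only [eps]; omega), one_mul]
    · refine ⟨y i, Subgroup.subset_closure ⟨i, by show i < 8; omega, rfl⟩, ?_⟩
      show wordVal A.x (fiWords.getD i []) = _
      rw [show fiWords = Fi22U62.subWords.tail from rfl, List.getD_eq_getElem _ _ (by
        rw [List.length_tail, hlen]; omega), List.getElem_tail]
  have hgen : Subgroup.closure (y '' {g | g < 8}) = ⊤ := by
    rw [eq_top_iff]
    intro u _
    have hle : H ≤ C0 := hHy.trans (Subgroup.map_subtype_le _)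
    have heq : H = C0 := by
      refine Subgroup.eq_of_le_of_card_ge hle ?_
      have e1 := Subgroup.card_mul_index H
      have e2 := Subgroup.card_mul_index C0
      rw [hH] at e1
      rw [hidx] at e2
      omega
    obtain ⟨v, hv, hvu⟩ := hHy (le_of_eq heq.symm u.2)
    rwa [← Subtype.ext (show (v : Spor.Fi22) = u from hvu)]
  have hd2 : A.d * A.d = 1 := by rw [hd, A.sq]
  refine ⟨T, hdC, ⟨y, fun g => ?_, hplain, ?_, ?_, ?_, Subtype.ext hd2, fun h => hdne (congrArg Subtype.val h),
    hgen, hcard⟩, hrX, hrC'⟩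
  · by_cases hg : g < 8
    · exact sq_of_plain hplain hg
    · have e : y g = 1 := Subtype.ext (by
        have hl : fiWords.length = 8 := by decide +kernel
        show wordVal A.x (fiWords.getD g []) = 1
        rw [List.getD_eq_default _ _ (by omega)]
        rfl)
      rw [e, one_mul]
  · rw [hrX]; exact one_mem _
  · rw [hrC']; exact Subgroup.mem_zpowers _
  · exact Subgroup.mem_center_iff.2 fun u =>
      Subtype.ext (Subgroup.mem_centralizer_singleton_iff.1 u.2)

/-- A perfect double cover of PSU(6, 2) is the centraliser of a transposition of Fi22. -/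
theorem exists_equiv_centralizer {C : Type*} [Group C] [Finite C] {F : Type} [Field F] [Fintype F]
    (hF : Fintype.card F = 4) {d : C} (φ : C →* Cfsg.PSU 6 F 2) (hs : Function.Surjective φ)
    (hker : φ.ker = Subgroup.zpowers d) (hd : d ∈ Subgroup.center C) (hord : orderOf d = 2)
    (hperf : commutator C = ⊤) :
    ∃ T : Fi22Norm.Fi22Tab Spor.Fi22 (conjugatesOf (Fi22Pres.numbering.gens Fi22.extra 0)),
      ∃ e : C ≃* Subgroup.centralizer ({T.A.d} : Set Spor.Fi22), ((e d : _) : Spor.Fi22) = T.A.d := by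
  obtain ⟨⟨e₀⟩, -⟩ := U62Mult.nonempty_equiv_psu
  obtain ⟨e₁⟩ := Cfsg.Lib.MinusSix.psu_congr
    (FiniteField.ringEquivOfCardEq (K := GF4) (K' := F) (by rw [GF4.card_eq, hF])) 6 2
  have : Small.{0} C := inferInstance
  let ed : Shrink.{0} C ≃* C := Shrink.mulEquiv
  have : Finite (Shrink.{0} C) := Finite.of_equiv C ed.symm.toEquiv
  let σ : Shrink.{0} C →* Pres := (e₀.trans e₁).symm.toMonoidHom.comp (φ.comp ed.toMonoidHom)
  set d' := ed.symm d
  have hdne : d ≠ 1 := fun h => by rw [h, orderOf_one] at hord; omega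
  have hd'2 : d' * d' = 1 := by
    rw [← map_mul, ← pow_two, ← hord, pow_orderOf_eq_one, map_one]
  have hd'c : d' ∈ Subgroup.center (Shrink.{0} C) := Subgroup.mem_center_iff.2 fun u => by
    apply ed.injective
    rw [map_mul, map_mul, ed.apply_symm_apply]
    exact Subgroup.mem_center_iff.1 hd (ed u)
  have hk : σ.ker = Subgroup.zpowers d' := by
    rw [show d' = ed.symm.toMonoidHom d from rfl, ← MonoidHom.map_zpowers, ← hker]
    ext u
    simp [σ, MonoidHom.mem_ker, Subgroup.mem_map_equiv]
  have hperf' : commutator (Shrink.{0} C) = ⊤ := by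
    rw [commutator_def, ← Subgroup.map_top_of_surjective ed.symm.toMonoidHom ed.symm.surjective,
      ← Subgroup.map_commutator, ← commutator_def, hperf]
  obtain ⟨D⟩ := exists_dbl σ ((e₀.trans e₁).symm.surjective.comp (hs.comp ed.surjective)) hd'c hd'2
    (fun h => hdne (by simpa [d'] using congrArg ed h)) hk hperf'
  obtain ⟨D', hX, hC⟩ := D.exists_std
  obtain ⟨T, hdC, R, hX', hC'⟩ := exists_centralizer_gens
  have : Finite Spor.Fi22 := Nat.finite_of_card_ne_zero (by rw [T.card]; positivity)
  obtain ⟨e, he⟩ := exists_equiv D'.toGens R hX hC hX' hC'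
  exact ⟨T, ed.symm.trans e, congrArg Subtype.val he⟩

end Cfsg.Lib.CosetEnum.U62Double
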