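import Cfsg.Agent.Lib.CosetEnum.U62Double.Defs
import Cfsg.Agent.Lib.CosetEnum.Perm

/-! Kernel checks for the substitution and for the centraliser in Fi22. -/

set_option autoImplicit false
set_option maxRecDepth 100000

namespace Cfsg.Lib.CosetEnum.U62Double

open U62Mult (pairRels relConj relCw relX relCox relHex lettersOK)

theorem sub_letters : (subQ.all lettersOK && Nat.beq subQ.length 8 &&
    subQ.all (fun u => Nat.beq (u.length % 2) 1)) = true := by decide +kernel

theorem sameQ_ok : sameQ 693 0 = true := by decide +kernel

theorem permQ_ok : permOK tabQ 8 693 U62Mult.rels 693 0 = true := by decide +kernel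

theorem tabQ_moves : Nat.beq (img tabQ 8 0 0) 0 = false ∨ Nat.beq (img tabQ 8 0 1) 1 = false ∨
    Nat.beq (img tabQ 8 0 2) 2 = false ∨ Nat.beq (img tabQ 8 0 3) 3 = false := by decide +kernel

theorem bits_plain : ((pairRels ++ [relConj, relHex, []]).all fun r => bitsAt r false false) = true := by
  decide +kernel

theorem bits_value : (bitsAt relX true true && bitsAt relCw true false && bitsAt relCox true true) = true := by
  decide +kernel

theorem fi_0 : permOK Fi22U62.tabP 9 3510 fiRels 390 0 = true := by decide +kernel

theorem fi_1 : permOK Fi22U62.tabP 9 3510 fiRels 390 390 = true := by decide +kernel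

theorem fi_2 : permOK Fi22U62.tabP 9 3510 fiRels 390 780 = true := by decide +kernel

theorem fi_3 : permOK Fi22U62.tabP 9 3510 fiRels 390 1170 = true := by decide +kernel

theorem fi_4 : permOK Fi22U62.tabP 9 3510 fiRels 390 1560 = true := by decide +kernel

theorem fi_5 : permOK Fi22U62.tabP 9 3510 fiRels 390 1950 = true := by decide +kernel

theorem fi_6 : permOK Fi22U62.tabP 9 3510 fiRels 390 2340 = true := by decide +kernel

theorem fi_7 : permOK Fi22U62.tabP 9 3510 fiRels 390 2730 = true := by decide +kernel

theorem fi_8 : permOK Fi22U62.tabP 9 3510 fiRels 390 3120 = true := by decide +kernel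

theorem fi_ok : permOK Fi22U62.tabP 9 3510 fiRels 3510 0 = true :=
  permOK_append (a := 390) (b := 3120) fi_0 (permOK_append (a := 390) (b := 2730) fi_1
    (permOK_append (a := 390) (b := 2340) fi_2 (permOK_append (a := 390) (b := 1950) fi_3
      (permOK_append (a := 390) (b := 1560) fi_4 (permOK_append (a := 390) (b := 1170) fi_5
        (permOK_append (a := 390) (b := 780) fi_6 (permOK_append (a := 390) (b := 390) fi_7 fi_8)))))))

theorem comm_ok : permOK Fi22U62.tabP 9 3510 fiComm 3510 0 = true :=
  permOK_append (a := 1755) (b := 1755)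
    (show permOK Fi22U62.tabP 9 3510 fiComm 1755 0 = true by decide +kernel)
    (show permOK Fi22U62.tabP 9 3510 fiComm 1755 1755 = true by decide +kernel)

end Cfsg.Lib.CosetEnum.U62Double
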