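import Cfsg.Agent.Lib.CosetEnum.U62Mult.CoverDefs
import Cfsg.Agent.Lib.CosetEnum.U62Double.TabQ
import Cfsg.Agent.Lib.CosetEnum.Fi22U62.Data

/-! A word substitution inducing an outer automorphism of PSU(6, 2), and its checks. -/

set_option autoImplicit false

namespace Cfsg.Lib.CosetEnum.U62Double

open U62Mult (pairRels relConj relCw relX relCox relHex)

/-- A word with the moved generators substituted. -/
def subst (w : List Nat) : List Nat := w.flatMap fun g => subQ.getD g []

/-- The moved generators act as in the table, on a range. -/
noncomputable def sameQ : Nat → Nat → Bool
  | 0, _ => true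
  | m + 1, i => force i fun i =>
      (List.range 8).all (fun g => Nat.beq (twalk U62Mult.tabP 8 (subQ.getD g []) i) (img tabQ 8 g i)) &&
        sameQ m (i + 1)

/-- The relators with value one in every double cover. -/
def plainRels : List (List Nat) := pairRels ++ [relConj, relCox, relHex, []]

/-- The parameters of the values of a substituted relator in the two double covers. -/
noncomputable def bitsAt (w : List Nat) (bB bC : Bool) : Bool :=
  Nat.beq (twalk U62Mult.tabB 8 (subst w) 0) (bif bB then twalk U62Mult.tabB 8 relX 0 else 0) &&
  Nat.beq (twalk U62Mult.tabC 8 (subst w) 0) (bif bC then twalk U62Mult.tabC 8 relCw 0 else 0)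

/-- The words in the letters of Fi22 for the generators of the double cover. -/
def fiWords : List (List Nat) := Fi22U62.subWords.tail

/-- A word translated to the letters of Fi22. -/
def toFi (w : List Nat) : List Nat := w.flatMap fun g => fiWords.getD g []

/-- The words with trivial value in the centraliser in Fi22. -/
def fiRels : List (List Nat) := (plainRels ++ [relX]).map toFi ++ [toFi relCw ++ [0]]

/-- The words commute with the first generator. -/
def fiComm : List (List Nat) := fiWords.map fun u => u ++ [0] ++ u.reverse ++ [0]

end Cfsg.Lib.CosetEnum.U62Double
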