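import Cfsg.Agent.Lib.CosetEnum.U62Double.Check
import Cfsg.Agent.Lib.CosetEnum.Groups.U62Cover
import Cfsg.Agent.Lib.CosetEnum.Simple

/-!
# Eight involutions in a double cover of PSU(6, 2)

The three perfect double covers are isomorphic: a diagonal automorphism moves their parameters around.
-/

set_option autoImplicit false
set_option maxRecDepth 100000
set_option linter.unusedSectionVars false
set_option maxHeartbeats 1000000

namespace Cfsg.Lib.CosetEnum.U62Double

open U62Mult (Pres xgen rels pairRels relConj relCw relX relCox relHex)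

/-- Eight generators of the presentation by the relators. -/
theorem wordVal_congr {M : Type*} [Group M] {x y : ℕ → M} : ∀ {w : List ℕ},
    (∀ g ∈ w, g < 8) → (∀ g < 8, x g = y g) → wordVal x w = wordVal y w
  | [], _, _ => rfl
  | g :: w, h, he => by
    rw [wordVal, wordVal, wordVal_congr (fun a ha => h a (by simp [ha])) he, gen, gen,
      if_neg (show g ≠ eps by have := h g (by simp); simp only [eps]; omega),
      if_neg (show g ≠ eps by have := h g (by simp); simp only [eps]; omega), he g (h g (by simp))]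

theorem rels_lt {r : List ℕ} (hr : r ∈ rels) : ∀ g ∈ r, g < 8 := fun g hg => by
  simpa [Nat.blt_eq] using List.all_eq_true.1 (List.all_eq_true.1 U62Mult.rels_letters r hr) g hg

theorem plain_mem {r : List ℕ} (hr : r ∈ plainRels) : r ∈ rels := by
  simp only [plainRels, rels, List.mem_append, List.mem_cons, List.not_mem_nil, or_false] at hr ⊢
  tauto

theorem rels_cases {r : List ℕ} (hr : r ∈ rels) : r ∈ plainRels ∨ r = relX ∨ r = relCw := by
  simp only [plainRels, rels, List.mem_append, List.mem_cons, List.not_mem_nil, or_false] at hr ⊢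
  tauto

/-- Relators valued in a normal subgroup give a map from the presented group. -/
theorem exists_mod {M : Type*} [Group M] (z : ℕ → M) (K : Subgroup M) [K.Normal]
    (hK : ∀ r ∈ rels, wordVal z r ∈ K) :
    ∃ ψ : Pres →* M ⧸ K, ∀ g < 8, ψ (xgen g) = (z g : M ⧸ K) :=
  WordPres.exists_hom (M := M ⧸ K) (by decide) U62Mult.rels_letters (fun g => (z g : M ⧸ K))
    fun r hr => by
      show wordVal (fun g => QuotientGroup.mk' K (z g)) r = 1
      rw [← map_wordVal (QuotientGroup.mk' K) z r]
      exact (QuotientGroup.eq_one_iff _).2 (hK r hr)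

/-- A word trivial in the presented group has its value in the subgroup. -/
theorem value_mem {M : Type*} [Group M] (z : ℕ → M) (K : Subgroup M) [K.Normal]
    (hK : ∀ r ∈ rels, wordVal z r ∈ K) {w : List ℕ} (hw : ∀ g ∈ w, g < 8) (h : wordVal xgen w = 1) :
    wordVal z w ∈ K := by
  obtain ⟨ψ, hψ⟩ := exists_mod z K hK
  have e := congrArg ψ h
  rw [map_wordVal, map_one, wordVal_congr (y := fun g => QuotientGroup.mk' K (z g)) hw fun g hg => hψ g hg,
    ← map_wordVal] at e
  exact (QuotientGroup.eq_one_iff _).1 e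

theorem subQ_lt (g : ℕ) : ∀ a ∈ subQ.getD g [], a < 8 := by
  intro a ha
  have h := sub_letters
  simp only [Bool.and_eq_true, and_assoc, List.all_eq_true, U62Mult.lettersOK, Nat.blt_eq] at h
  by_cases hg : g < subQ.length
  · rw [List.getD_eq_getElem _ _ hg] at ha
    exact h.1 _ (List.getElem_mem hg) a ha
  · rw [List.getD_eq_default _ _ (by omega)] at ha
    simp at ha

theorem subst_lt (w : List ℕ) : ∀ a ∈ subst w, a < 8 := by
  intro a ha
  obtain ⟨g, -, hg⟩ := List.mem_flatMap.1 ha
  exact subQ_lt g a hg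

theorem wordVal_flatMap {M : Type*} [Group M] (z : ℕ → M) (u : ℕ → List ℕ) : ∀ {w : List ℕ},
    (∀ g ∈ w, g < 8) → wordVal z (w.flatMap u) = wordVal (fun g => wordVal z (u g)) w
  | [], _ => rfl
  | g :: w, h => by
    rw [List.flatMap_cons, wordVal_append, wordVal_flatMap z u fun a ha => h a (by simp [ha]), wordVal,
      gen, if_neg (show g ≠ eps by have := h g (by simp); simp only [eps]; omega)]

theorem tperm_sub {g : ℕ} (hg : g < 8) :
    wordVal (tperm U62Mult.tabP 8 693) (subQ.getD g []) = tperm tabQ 8 693 g := by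
  have hget : ∀ (m i : ℕ), sameQ m i = true → ∀ j, i ≤ j → j < i + m →
      twalk U62Mult.tabP 8 (subQ.getD g []) j = img tabQ 8 g j := by
    intro m
    induction m with
    | zero => intro i _ j h1 h2; omega
    | succ m ih =>
      intro i hc j h1 h2
      rw [sameQ, force_eq] at hc
      simp only [Bool.and_eq_true, List.all_eq_true, List.mem_range, Nat.beq_eq] at hc
      rcases Nat.eq_or_lt_of_le h1 with e | e
      · subst e; exact hc.1 g hg
      · exact ih (i + 1) hc.2 j e (by omega)
  refine Equiv.ext fun i => Fin.ext ?_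
  rw [wordVal_tperm U62Mult.perm_ok (by decide) _ (subQ_lt g), tperm_apply permQ_ok hg]
  exact hget 693 0 sameQ_ok i.1 (Nat.zero_le _) (by omega)

theorem xgen_subst {r : List ℕ} (hr : r ∈ rels) : wordVal xgen (subst r) = 1 := by
  apply U62Mult.act'_injective
  rw [map_one, map_wordVal_tperm xgen U62Mult.act' (by decide) U62Mult.act'_gen (subst_lt r), subst,
    wordVal_flatMap _ _ (rels_lt hr),
    wordVal_congr (y := tperm tabQ 8 693) (rels_lt hr) fun g hg => tperm_sub hg]
  exact wordVal_tperm_eq_one permQ_ok (by decide) hr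

theorem pres_simple : IsSimpleGroup Pres := by
  obtain ⟨⟨e⟩, -⟩ := U62Mult.nonempty_equiv_psu
  have : IsSimpleGroup (Cfsg.PSU 6 GF4 2) :=
    Cfsg.Lib.Linear.Herm.psu_simple (q := 2) (rfl : Fintype.card GF4 = 2 ^ 2) (by norm_num)
  exact MulEquiv.isSimpleGroup e

/-- The automorphism carrying the generators to the moved ones. -/
theorem exists_delta : ∃ δ : Pres ≃* Pres, ∀ g < 8, δ (xgen g) = wordVal xgen (subQ.getD g []) := by
  obtain ⟨δ, hδ⟩ := WordPres.exists_hom (M := Pres) (by decide) U62Mult.rels_letters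
    (fun g => wordVal xgen (subQ.getD g [])) fun r hr => by
      rw [← wordVal_flatMap xgen (fun g => subQ.getD g []) (rels_lt hr)]
      exact xgen_subst hr
  have := U62Mult.pres_finite
  have := pres_simple
  have hne : δ (xgen 0) ≠ 1 := by
    intro h
    rw [show δ (xgen 0) = _ from hδ 0 (by decide)] at h
    have h1 := congrArg U62Mult.act' h
    rw [map_one, map_wordVal_tperm xgen U62Mult.act' (by decide) U62Mult.act'_gen (subQ_lt 0),
      tperm_sub (by decide)] at h1
    have h2 : ∀ i : Fin 693, img tabQ 8 0 i.1 = i.1 := fun i => by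
      rw [← tperm_apply permQ_ok (by decide : 0 < 8) i, h1]; rfl
    rcases tabQ_moves with q | q | q | q
    · rw [h2 ⟨0, by norm_num⟩] at q; simp at q
    · rw [h2 ⟨1, by norm_num⟩] at q; simp at q
    · rw [h2 ⟨2, by norm_num⟩] at q; simp at q
    · rw [h2 ⟨3, by norm_num⟩] at q; simp at q
  have hinj : Function.Injective δ := by
    rw [← MonoidHom.ker_eq_bot_iff]
    exact (δ.normal_ker.eq_bot_or_eq_top).resolve_right fun h => hne (δ.mem_ker.1 (h ▸ Subgroup.mem_top _))
  exact ⟨MulEquiv.ofBijective δ (Finite.injective_iff_bijective.1 hinj), hδ⟩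

variable {C : Type*} [Group C]

/-- Generators with the values of a double cover. -/
structure Gens (C : Type*) [Group C] (d : C) where
  /-- The generators. -/
  y : ℕ → C
  sq : ∀ g, y g * y g = 1
  plain : ∀ r ∈ plainRels, wordVal y r = 1
  valX : wordVal y relX ∈ Subgroup.zpowers d
  valC : wordVal y relCw ∈ Subgroup.zpowers d
  central : d ∈ Subgroup.center C
  dsq : d * d = 1
  dne : d ≠ 1
  genTop : Subgroup.closure (y '' {g | g < 8}) = ⊤
  card : Nat.card C = 2 * 9196830720

/-- The same, over the presented group. -/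
structure Dbl (C : Type*) [Group C] (d : C) extends Gens C d where
  /-- The projection. -/
  proj : C →* Pres
  proj_y : ∀ g < 8, proj (y g) = xgen g
  proj_ker : proj.ker = Subgroup.zpowers d

variable {d : C}

theorem zpowers_cases (hd : d * d = 1) {a : C} (ha : a ∈ Subgroup.zpowers d) : a = 1 ∨ a = d := by
  obtain ⟨k, rfl⟩ := Subgroup.mem_zpowers_iff.1 ha
  have h2 : d ^ (2 : ℤ) = 1 := by rw [zpow_two]; exact hd
  rcases Int.even_or_odd' k with ⟨l, rfl | rfl⟩
  · exact Or.inl (by rw [zpow_mul, h2, one_zpow])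
  · exact Or.inr (by rw [zpow_add, zpow_mul, h2, one_zpow, one_mul, zpow_one])

theorem pair_closure {M : Type*} [Group M] {p q : M} (hp : p * p = 1) (hq : q * q = 1)
    (hpq : p * q = q * p) {t : M} (ht : t ∈ Subgroup.closure ({p, q} : Set M)) :
    ∃ m n : Bool, t = (if m then p else 1) * (if n then q else 1) := by
  induction ht using Subgroup.closure_induction with
  | mem u hu =>
    rcases hu with rfl | rfl
    · exact ⟨true, false, by simp⟩
    · exact ⟨false, true, by simp⟩
  | one => exact ⟨false, false, by simp⟩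
  | mul u v _ _ hu hv =>
    obtain ⟨m, n, rfl⟩ := hu
    obtain ⟨m', n', rfl⟩ := hv
    refine ⟨Bool.xor m m', Bool.xor n n', ?_⟩
    have c : Commute p q := hpq
    cases m <;> cases n <;> cases m' <;> cases n' <;>
      simp [← mul_assoc, hp, hq, hpq] <;> simp [mul_assoc, hp, hq, hpq] <;> simp [← mul_assoc, hp, hq]
  | inv u _ hu =>
    obtain ⟨m, n, rfl⟩ := hu
    refine ⟨m, n, ?_⟩
    have ip : p⁻¹ = p := inv_eq_of_mul_eq_one_left hp
    have iq : q⁻¹ = q := inv_eq_of_mul_eq_one_left hq
    cases m <;> cases n <;> simp [ip, iq, hpq]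

theorem plain_cover {r : List ℕ} (h : r ∈ plainRels) : r ∈ U62Mult.relsB ∧ r ∈ U62Mult.relsC := by
  simp only [plainRels, U62Mult.relsB, U62Mult.relsC, List.mem_append, List.mem_cons,
    List.not_mem_nil, or_false] at h ⊢
  rcases h with h | h | h | h | h <;> simp [h]

theorem cover_values : (wordVal (tperm U62Mult.tabB 8 2816) relX ^ 2 = 1 ∧
    ∀ r ∈ U62Mult.relsB, wordVal (tperm U62Mult.tabB 8 2816) r = 1) ∧
    (wordVal (tperm U62Mult.tabC 8 2816) relCw ^ 2 = 1 ∧
    ∀ r ∈ U62Mult.relsC, wordVal (tperm U62Mult.tabC 8 2816) r = 1) := by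
  have hB := U62Mult.centralB_ok
  have hC := U62Mult.centralC_ok
  rw [Bool.and_eq_true] at hB hC
  exact ⟨⟨(U62Mult.perm_central U62Mult.permB_ok hB.1 hB.2).2,
      fun r hr => wordVal_tperm_eq_one U62Mult.permB_ok (by decide) hr⟩,
    (U62Mult.perm_central U62Mult.permC_ok hC.1 hC.2).2,
      fun r hr => wordVal_tperm_eq_one U62Mult.permC_ok (by decide) hr⟩

/-- The value of a substituted relator, read off the two double covers at one point. -/
theorem value_subst (T : Gens C d) {a b : Bool}
    (ha : wordVal T.y relX = if a then d else 1) (hb : wordVal T.y relCw = if b then d else 1)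
    {r : List ℕ} (hr : r ∈ rels) {i j : Bool} (hbits : bitsAt r i j = true) :
    wordVal T.y (subst r) = if Bool.xor (a && i) (b && j) then d else 1 := by
  classical
  set zB := wordVal (tperm U62Mult.tabB 8 2816) relX with hzB
  set zC := wordVal (tperm U62Mult.tabC 8 2816) relCw with hzC
  obtain ⟨⟨hB2, hB⟩, hC2, hC⟩ := cover_values
  let z : ℕ → C × Equiv.Perm (Fin 2816) × Equiv.Perm (Fin 2816) := fun g =>
    (T.y g, tperm U62Mult.tabB 8 2816 g, tperm U62Mult.tabC 8 2816 g)
  have hval : ∀ w : List ℕ, wordVal z w =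
      (wordVal T.y w, wordVal (tperm U62Mult.tabB 8 2816) w, wordVal (tperm U62Mult.tabC 8 2816) w) :=
    fun w => Prod.ext (map_wordVal (MonoidHom.fst _ _) z w)
      (Prod.ext (map_wordVal ((MonoidHom.fst (Equiv.Perm (Fin 2816)) (Equiv.Perm (Fin 2816))).comp
          (MonoidHom.snd C _)) z w)
        (map_wordVal ((MonoidHom.snd (Equiv.Perm (Fin 2816)) (Equiv.Perm (Fin 2816))).comp
          (MonoidHom.snd C _)) z w))
  set p : C × Equiv.Perm (Fin 2816) × Equiv.Perm (Fin 2816) := (wordVal T.y relX, zB, 1)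
  set q : C × Equiv.Perm (Fin 2816) × Equiv.Perm (Fin 2816) := (wordVal T.y relCw, 1, zC)
  set S := Subgroup.closure (z '' {g | g < 8})
  let z' : ℕ → S := fun g => if h : g < 8 then ⟨z g, Subgroup.subset_closure ⟨g, h, rfl⟩⟩ else 1
  have hz' : ∀ w : List ℕ, (∀ g ∈ w, g < 8) → ((wordVal z' w : S) :
      C × Equiv.Perm (Fin 2816) × Equiv.Perm (Fin 2816)) = wordVal z w := by
    intro w hw
    refine (map_wordVal S.subtype z' w).trans (wordVal_congr hw fun g hg => ?_)
    simp [z', hg]
  have hmemX : relX ∈ rels := List.mem_append_right _ (by simp)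
  have hmemC : relCw ∈ rels := List.mem_append_right _ (by simp)
  have ep : (wordVal z' relX : S).1 = p := by
    rw [hz' _ (rels_lt hmemX), hval, hC relX (List.mem_append_right _ (by simp))]
  have eq : (wordVal z' relCw : S).1 = q := by
    rw [hz' _ (rels_lt hmemC), hval, hB relCw (List.mem_append_right _ (by simp))]
  have hcomm : ∀ c : C, c ∈ Subgroup.zpowers d → ∀ e : C, e * c = c * e := fun c hc e =>
    Subgroup.mem_center_iff.1 ((Subgroup.zpowers_le.2 T.central) hc) e
  have hB' := U62Mult.centralB_ok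
  have hC' := U62Mult.centralC_ok
  rw [Bool.and_eq_true] at hB' hC'
  have hBc := (U62Mult.perm_central U62Mult.permB_ok hB'.1 hB'.2).1
  have hCc := (U62Mult.perm_central U62Mult.permC_ok hC'.1 hC'.2).1
  have hS : S ≤ Subgroup.centralizer {p, q} := by
    rw [Subgroup.closure_le]
    rintro _ ⟨g, hg, rfl⟩
    rw [SetLike.mem_coe, Subgroup.mem_centralizer_iff]
    rintro t (rfl | rfl)
    · exact Prod.ext (hcomm _ T.valX _).symm (Prod.ext (hBc g hg).eq (by simp [p, z]))
    · exact Prod.ext (hcomm _ T.valC _).symm (Prod.ext (by simp [q, z]) (hCc g hg).eq)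
  set K : Subgroup S := Subgroup.closure {wordVal z' relX, wordVal z' relCw}
  have hKc : K ≤ Subgroup.center S := by
    rw [Subgroup.closure_le]
    intro t ht
    rw [SetLike.mem_coe, Subgroup.mem_center_iff]
    intro u
    apply Subtype.ext
    rcases ht with rfl | rfl
    · exact ((Subgroup.mem_centralizer_iff.1 (hS u.2)) _ (by rw [ep]; exact Or.inl rfl)).symm
    · exact ((Subgroup.mem_centralizer_iff.1 (hS u.2)) _ (by rw [eq]; exact Or.inr rfl)).symm
  have : K.Normal := ⟨fun u hu v => by
    rw [Subgroup.mem_center_iff.1 (hKc hu) v, mul_inv_cancel_right]; exact hu⟩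
  have hK : ∀ s ∈ rels, wordVal z' s ∈ K := by
    intro s hs
    rcases rels_cases hs with h | rfl | rfl
    · have e : wordVal z' s = 1 := Subtype.ext (by
        rw [hz' _ (rels_lt hs), hval, T.plain s h]
        have h' := plain_cover h
        rw [hB s h'.1, hC s h'.2]
        rfl)
      rw [e]
      exact one_mem _
    · exact Subgroup.subset_closure (Or.inl rfl)
    · exact Subgroup.subset_closure (Or.inr rfl)
  have hmem := value_mem z' K hK (subst_lt r) (xgen_subst hr)
  -- the four possible values
  have hfour : ∃ m n : Bool, (wordVal z' (subst r) : S).1 =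
      (if m then p else 1) * (if n then q else 1) := by
    have hp2 : p * p = 1 := Prod.ext (by
        rcases zpowers_cases T.dsq T.valX with h | h <;> simp [p, h, T.dsq])
      (Prod.ext (by simpa [pow_two] using hB2) (one_mul 1))
    have hq2 : q * q = 1 := Prod.ext (by
        rcases zpowers_cases T.dsq T.valC with h | h <;> simp [q, h, T.dsq])
      (Prod.ext (one_mul 1) (by simpa [pow_two] using hC2))
    have hpq : p * q = q * p := Prod.ext (hcomm _ T.valC _) (Prod.ext (by simp [p, q]) (by simp [p, q]))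
    refine pair_closure hp2 hq2 hpq ?_
    have h := Subgroup.mem_map_of_mem S.subtype hmem
    rw [MonoidHom.map_closure, Set.image_pair] at h
    simpa only [Subgroup.coe_subtype, ep, eq] using h
  obtain ⟨m, n, hmn⟩ := hfour
  rw [hz' _ (subst_lt r), hval] at hmn
  have e1 := congrArg Prod.fst hmn
  have e2 := congrArg (fun t => t.2.1 ⟨0, by norm_num⟩) hmn
  have e3 := congrArg (fun t => t.2.2 ⟨0, by norm_num⟩) hmn
  have v2 := congrArg Fin.val e2
  have v3 := congrArg Fin.val e3
  simp only at v2 v3
  rw [wordVal_tperm U62Mult.permB_ok (by decide) _ (subst_lt r)] at v2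
  rw [wordVal_tperm U62Mult.permC_ok (by decide) _ (subst_lt r)] at v3
  simp only [bitsAt, Bool.and_eq_true, Nat.beq_eq] at hbits
  rw [hbits.1] at v2
  rw [hbits.2] at v3
  have hnB := U62Mult.centralB_ne
  have hnC := U62Mult.centralC_ne
  have eB : (zB ⟨0, by norm_num⟩).1 = twalk U62Mult.tabB 8 relX 0 := by
    rw [hzB, wordVal_tperm U62Mult.permB_ok (by decide) _ (rels_lt hmemX)]
  have eC : (zC ⟨0, by norm_num⟩).1 = twalk U62Mult.tabC 8 relCw 0 := by
    rw [hzC, wordVal_tperm U62Mult.permC_ok (by decide) _ (rels_lt hmemC)]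
  have hnB' : twalk U62Mult.tabB 8 relX 0 ≠ 0 := fun h => by rw [h] at hnB; simp at hnB
  have hnC' : twalk U62Mult.tabC 8 relCw 0 ≠ 0 := fun h => by rw [h] at hnC; simp at hnC
  have him : i = m := by
    cases i <;> cases m <;> (first | rfl | exfalso) <;> cases n <;> simp [p, q] at v2 eB ⊢ <;> omega
  have hjn : j = n := by
    cases j <;> cases m <;> cases n <;> (first | rfl | exfalso) <;> simp [p, q] at v3 eC ⊢ <;> omega
  subst him hjn
  rw [show wordVal T.y (subst r) = _ from e1]
  cases a <;> cases b <;> cases i <;> cases j <;> simp_all [p, q, T.dsq]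

end Cfsg.Lib.CosetEnum.U62Double
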