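import Cfsg.Agent.Lib.CosetEnum.U62Double.Frame
import Cfsg.Agent.Lib.CosetEnum.Groups.U62Stem

/-!
# Perfect double covers of PSU(6, 2) are isomorphic
-/

set_option autoImplicit false
set_option maxRecDepth 100000
set_option linter.unusedSectionVars false
set_option maxHeartbeats 1000000

namespace Cfsg.Lib.CosetEnum.U62Double

open U62Mult (Pres xgen rels pairRels relConj relCw relX relCox relHex)
open scoped commutatorElement

variable {C : Type*} [Group C] {d : C}

theorem plain_even {r : List ℕ} (hr : r ∈ rels) (hne : r ≠ relCox) : Even r.length := by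
  have h : rels.all (fun r => Nat.beq (r.length % 2) 0 || beqW r relCox) = true := by decide +kernel
  have := List.all_eq_true.1 h r hr
  rw [Bool.or_eq_true, Nat.beq_eq] at this
  rcases this with h | h
  · exact Nat.even_iff.2 h
  · exact absurd (beqW_eq h) hne

theorem cox_length : relCox.length = 2 * 31 + 1 := by decide +kernel

theorem sq_of_plain {y : ℕ → C} (h : ∀ r ∈ plainRels, wordVal y r = 1) {g : ℕ} (hg : g < 8) :
    y g * y g = 1 := by
  have hm : ∀ a : Fin 8, [a.1, a.1] ∈ plainRels := by decide +kernel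
  have := h _ (hm ⟨g, hg⟩)
  simp only [wordVal, gen, if_neg (show g ≠ eps by simp only [eps]; omega), one_mul] at this
  exact this

theorem rels_mem : relX ∈ rels ∧ relCw ∈ rels ∧ relCox ∈ rels :=
  ⟨List.mem_append_right _ (by simp), List.mem_append_right _ (by simp), List.mem_append_right _ (by simp)⟩

/-- Not both values are trivial. -/
theorem Gens.nontriv (T : Gens C d) : ¬ (wordVal T.y relX = 1 ∧ wordVal T.y relCw = 1) := by
  rintro ⟨hX, hC⟩
  obtain ⟨ψ, hψ⟩ := exists_mod T.y (⊥ : Subgroup C) fun r hr => by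
    rw [Subgroup.mem_bot]
    rcases rels_cases hr with h | rfl | rfl
    exacts [T.plain r h, hX, hC]
  have hsurj : Function.Surjective ψ := by
    rw [← MonoidHom.range_eq_top, ← top_le_iff,
      ← Subgroup.map_top_of_surjective (QuotientGroup.mk' (⊥ : Subgroup C)) (QuotientGroup.mk'_surjective _),
      ← T.genTop, MonoidHom.map_closure, Subgroup.closure_le]
    rintro _ ⟨_, ⟨g, hg, rfl⟩, rfl⟩
    exact ⟨xgen g, hψ g hg⟩
  have := U62Mult.pres_finite
  have h := Nat.card_le_card_of_surjective ψ hsurj
  rw [Nat.card_congr QuotientGroup.quotientBot.toEquiv, T.card, U62Mult.nonempty_equiv_psu.2] at h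
  omega

/-- Two double covers with the same standard values are isomorphic. -/
theorem exists_equiv {C' : Type*} [Group C'] {d' : C'} [Finite C] [Finite C'] (T : Gens C d) (T' : Gens C' d')
    (hX : wordVal T.y relX = 1) (hC : wordVal T.y relCw = d)
    (hX' : wordVal T'.y relX = 1) (hC' : wordVal T'.y relCw = d') :
    ∃ e : C ≃* C', e d = d' := by
  let z : ℕ → C × C' := fun g => (T.y g, T'.y g)
  have hval : ∀ w : List ℕ, wordVal z w = (wordVal T.y w, wordVal T'.y w) := fun w =>
    Prod.ext (map_wordVal (MonoidHom.fst C C') z w) (map_wordVal (MonoidHom.snd C C') z w)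
  set R := Subgroup.closure (z '' {g | g < 8})
  let z' : ℕ → R := fun g => if h : g < 8 then ⟨z g, Subgroup.subset_closure ⟨g, h, rfl⟩⟩ else 1
  have hz' : ∀ w : List ℕ, (∀ g ∈ w, g < 8) → ((wordVal z' w : R) : C × C') = wordVal z w := by
    intro w hw
    refine (map_wordVal R.subtype z' w).trans (wordVal_congr hw fun g hg => ?_)
    simp [z', hg]
  set c := wordVal z' relCw
  have ec : (c : C × C') = (d, d') := by rw [hz' _ (rels_lt rels_mem.2.1), hval, hC, hC']
  set K := Subgroup.zpowers c
  have hKc : K ≤ Subgroup.center R := by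
    rw [Subgroup.zpowers_le, Subgroup.mem_center_iff]
    intro u
    apply Subtype.ext
    rw [Subgroup.coe_mul, Subgroup.coe_mul, ec]
    exact Prod.ext (Subgroup.mem_center_iff.1 T.central _) (Subgroup.mem_center_iff.1 T'.central _)
  have : K.Normal := ⟨fun u hu v => by
    rw [Subgroup.mem_center_iff.1 (hKc hu) v, mul_inv_cancel_right]; exact hu⟩
  have hcK : Nat.card K ≤ 2 := by
    rw [Nat.card_zpowers]
    refine orderOf_le_of_pow_eq_one (by norm_num) (Subtype.ext ?_)
    rw [SubgroupClass.coe_pow, ec, pow_two]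
    exact Prod.ext T.dsq T'.dsq
  obtain ⟨ψ, hψ⟩ := exists_mod z' K fun r hr => by
    rcases rels_cases hr with h | rfl | rfl
    · rw [show wordVal z' r = 1 from Subtype.ext (by
        rw [hz' _ (rels_lt hr), hval, T.plain r h, T'.plain r h]; rfl)]
      exact one_mem _
    · rw [show wordVal z' relX = 1 from Subtype.ext (by
        rw [hz' _ (rels_lt hr), hval, hX, hX']; rfl)]
      exact one_mem _
    · exact Subgroup.mem_zpowers c
  have hRtop : Subgroup.closure (z' '' {g | g < 8}) = ⊤ := by
    apply Subgroup.map_injective R.subtype_injective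
    rw [MonoidHom.map_closure, ← MonoidHom.range_eq_map, Subgroup.range_subtype, ← Set.image_comp]
    exact congrArg Subgroup.closure (Set.image_congr fun g (hg : g < 8) => by simp [z', hg])
  have hsurj : Function.Surjective ψ := by
    rw [← MonoidHom.range_eq_top, ← top_le_iff,
      ← Subgroup.map_top_of_surjective (QuotientGroup.mk' K) (QuotientGroup.mk'_surjective _),
      ← hRtop, MonoidHom.map_closure, Subgroup.closure_le]
    rintro _ ⟨_, ⟨g, hg, rfl⟩, rfl⟩
    exact ⟨xgen g, hψ g hg⟩
  have := U62Mult.pres_finite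
  have hle : Nat.card R ≤ 2 * 9196830720 := by
    rw [Subgroup.card_eq_card_quotient_mul_card_subgroup K, mul_comm]
    refine Nat.mul_le_mul hcK ?_
    rw [← U62Mult.nonempty_equiv_psu.2]
    exact Nat.card_le_card_of_surjective ψ hsurj
  let f : R →* C := (MonoidHom.fst C C').comp R.subtype
  let f' : R →* C' := (MonoidHom.snd C C').comp R.subtype
  have hf : Function.Surjective f := by
    rw [← MonoidHom.range_eq_top, ← top_le_iff, ← T.genTop, Subgroup.closure_le]
    rintro _ ⟨g, hg, rfl⟩
    exact ⟨z' g, by simp [f, z', show g < 8 from hg, z]⟩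
  have hf' : Function.Surjective f' := by
    rw [← MonoidHom.range_eq_top, ← top_le_iff, ← T'.genTop, Subgroup.closure_le]
    rintro _ ⟨g, hg, rfl⟩
    exact ⟨z' g, by simp [f', z', show g < 8 from hg, z]⟩
  have hb : Function.Bijective f := hf.bijective_of_nat_card_le (by rw [T.card]; exact hle)
  have hb' : Function.Bijective f' := hf'.bijective_of_nat_card_le (by rw [T'.card]; exact hle)
  refine ⟨(MulEquiv.ofBijective f hb).symm.trans (MulEquiv.ofBijective f' hb'), ?_⟩
  have h1 : f c = d := congrArg Prod.fst ec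
  have h2 : f' c = d' := congrArg Prod.snd ec
  rw [MulEquiv.trans_apply, show (MulEquiv.ofBijective f hb).symm d = c from
    (MulEquiv.symm_apply_eq _).2 h1.symm]
  exact h2

theorem ite_mem (b : Bool) : (if b then d else 1) ∈ Subgroup.zpowers d := by
  cases b <;> simp

/-- The parameters move under the substitution. -/
theorem Dbl.move (T : Dbl C d) {a b : Bool} (ha : wordVal T.y relX = if a then d else 1)
    (hb : wordVal T.y relCw = if b then d else 1) :
    ∃ T' : Dbl C d, wordVal T'.y relX = (if Bool.xor a b then d else 1) ∧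
      wordVal T'.y relCw = if a then d else 1 := by
  obtain ⟨δ, hδ⟩ := exists_delta
  set e : C := if Bool.xor a b then d else 1 with he
  have hec : e ∈ Subgroup.center C := (Subgroup.zpowers_le.2 T.central) (ite_mem _)
  have he2 : e * e = 1 := by rw [he]; cases Bool.xor a b <;> simp [T.dsq]
  let y' : ℕ → C := fun g => if g < 8 then e * wordVal T.y (subQ.getD g []) else 1
  have hval : ∀ r ∈ rels, wordVal y' r = e ^ r.length * wordVal T.y (subst r) := by
    intro r hr
    rw [wordVal_congr (y := fun g => e * wordVal T.y (subQ.getD g [])) (rels_lt hr) fun g hg => if_pos hg,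
      wordVal_mul_central hec _ fun g hg => by have := rels_lt hr g hg; simp only [eps]; omega,
      subst, wordVal_flatMap _ _ (rels_lt hr)]
  have hev : ∀ r ∈ rels, r ≠ relCox → e ^ r.length = 1 := by
    intro r hr hne
    obtain ⟨l, hl⟩ := plain_even hr hne
    rw [hl, ← two_mul, pow_mul, pow_two, he2, one_pow]
  have hbp := List.all_eq_true.1 bits_plain
  have hbv := bits_value
  simp only [Bool.and_eq_true, and_assoc] at hbv
  have vX : wordVal y' relX = if Bool.xor a b then d else 1 := by
    rw [hval _ rels_mem.1, hev _ rels_mem.1 (by decide), one_mul,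
      value_subst T.toGens ha hb rels_mem.1 hbv.1]
    simp
  have vC : wordVal y' relCw = if a then d else 1 := by
    rw [hval _ rels_mem.2.1, hev _ rels_mem.2.1 (by decide), one_mul,
      value_subst T.toGens ha hb rels_mem.2.1 hbv.2.1]
    simp
  have hplain : ∀ r ∈ plainRels, wordVal y' r = 1 := by
    intro r hr
    rw [hval r (plain_mem hr)]
    by_cases hne : r = relCox
    · subst hne
      rw [value_subst T.toGens ha hb (plain_mem hr) hbv.2.2, Bool.and_true, Bool.and_true, ← he,
        cox_length, pow_succ, pow_mul, pow_two, he2, one_pow, one_mul, he2]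
    · rw [hev r (plain_mem hr) hne, one_mul,
        value_subst T.toGens ha hb (plain_mem hr) (i := false) (j := false) (hbp r (by
          simp only [plainRels, List.mem_append, List.mem_cons, List.not_mem_nil, or_false] at hr ⊢
          rcases hr with h | h | h | h | h
          exacts [Or.inl h, Or.inr (Or.inl h), absurd h hne, Or.inr (Or.inr (Or.inl h)),
            Or.inr (Or.inr (Or.inr h))]))]
      simp
  let proj' : C →* Pres := δ.symm.toMonoidHom.comp T.proj
  have hproj : ∀ g < 8, proj' (y' g) = xgen g := by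
    intro g hg
    show δ.symm (T.proj (y' g)) = xgen g
    rw [MulEquiv.symm_apply_eq, hδ g hg]
    simp only [y', if_pos hg, map_mul, map_wordVal]
    have : T.proj e = 1 := MonoidHom.mem_ker.1 (T.proj_ker ▸ ite_mem _)
    rw [this, one_mul, wordVal_congr (subQ_lt g) fun a ha => T.proj_y a ha]
  have hker : proj'.ker = Subgroup.zpowers d := by
    rw [← T.proj_ker]
    ext u
    simp [proj', MonoidHom.mem_ker]
  set H := Subgroup.closure (y' '' {g | g < 8})
  have hdH : d ∈ H := by
    have hmem : ∀ r ∈ rels, wordVal y' r ∈ H := fun r hr => by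
      have := wordVal_mem y' (S := List.range 8) (u := r) fun g hg =>
        ⟨List.mem_range.2 (rels_lt hr g hg), by have := rels_lt hr g hg; simp only [eps]; omega⟩
      convert this using 3
      ext g
      simp
    rcases Bool.eq_false_or_eq_true a with h | h
    · have := hmem _ rels_mem.2.1; rwa [vC, h, if_pos rfl] at this
    · rcases Bool.eq_false_or_eq_true b with h' | h'
      · have := hmem _ rels_mem.1; rwa [vX, h, h', Bool.false_xor, if_pos rfl] at this
      · exact absurd ⟨by rw [ha, h]; simp, by rw [hb, h']; simp⟩ T.toGens.nontriv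
  have hgen : H = ⊤ := by
    rw [eq_top_iff]
    intro u _
    have hu : proj' u ∈ H.map proj' := by
      have : H.map proj' = ⊤ := by
        rw [eq_top_iff, ← U62Mult.xgen_closure, Subgroup.closure_le]
        rintro _ ⟨g, hg, rfl⟩
        exact ⟨y' g, Subgroup.subset_closure ⟨g, hg, rfl⟩, hproj g hg⟩
      rw [this]; trivial
    obtain ⟨v, hv, hvu⟩ := hu
    have : v⁻¹ * u ∈ proj'.ker := by rw [MonoidHom.mem_ker, map_mul, map_inv, hvu, inv_mul_cancel]
    rw [hker] at this
    have h2 := mul_mem hv ((Subgroup.zpowers_le.2 hdH) this)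
    rwa [mul_inv_cancel_left] at h2
  refine ⟨⟨⟨y', fun g => ?_, hplain, by rw [vX]; exact ite_mem _, by rw [vC]; exact ite_mem _, T.central,
    T.dsq, T.dne, hgen, T.card⟩, proj', hproj, hker⟩, vX, vC⟩
  by_cases hg : g < 8
  · exact sq_of_plain hplain hg
  · simp [y', hg]

/-- Some choice of generators has the standard values. -/
theorem Dbl.exists_std (T : Dbl C d) :
    ∃ T' : Dbl C d, wordVal T'.y relX = 1 ∧ wordVal T'.y relCw = d := by
  have key : ∀ {v : C}, v ∈ Subgroup.zpowers d → ∃ a : Bool, v = if a then d else 1 := fun hv =>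
    (zpowers_cases T.dsq hv).elim (fun h => ⟨false, by simpa using h⟩) fun h => ⟨true, by simpa using h⟩
  obtain ⟨a, ha⟩ := key T.valX
  obtain ⟨b, hb⟩ := key T.valC
  have hne := T.toGens.nontriv
  rw [ha, hb] at hne
  cases a <;> cases b
  · simp at hne
  · exact ⟨T, by simpa using ha, by simpa using hb⟩
  · obtain ⟨T₁, h1, h2⟩ := T.move ha hb
    obtain ⟨T₂, h3, h4⟩ := T₁.move (a := true) (b := true) (by simpa using h1) (by simpa using h2)
    exact ⟨T₂, by simpa using h3, by simpa using h4⟩
  · obtain ⟨T₁, h1, h2⟩ := T.move ha hb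
    exact ⟨T₁, by simpa using h1, by simpa using h2⟩

/-- A perfect central extension by a group of order two has such generators. -/
theorem exists_dbl {C : Type} [Group C] [Finite C] {d : C} (σ : C →* Pres) (hs : Function.Surjective σ)
    (hd : d ∈ Subgroup.center C) (hd2 : d * d = 1) (hdne : d ≠ 1) (hk : σ.ker = Subgroup.zpowers d)
    (hperf : commutator C = ⊤) : Nonempty (Dbl C d) := by
  obtain ⟨Q, _, π, ι, hπ, hι, hcomp, ⟨L⟩⟩ := U62Mult.transTab.exists_lifts hs
    (hk.le.trans (Subgroup.zpowers_le.2 hd)) U62Mult.dvec_sq U62Mult.centralizer_perfect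
  have hk0 : 0 < U62Mult.transTab.k := Nat.succ_pos _
  have hws : U62Mult.words.all (fun w => w.all fun g => Nat.blt g U62Mult.transTab.k) = true :=
    U62Mult.words_ok
  have hbd : ∀ r ∈ rels, ∀ i ∈ seqOf U62Mult.pts r, i < 693 := fun r hr =>
    U62Mult.transTab.seqOf_lt (w := r) (rels_lt hr)
  have hproj : ∀ r ∈ rels, π (wordVal L.y r) = 1 := fun r hr => by
    rw [L.proj_word (rels_lt hr)]
    exact U62Mult.xgen_rel r hr
  set F := wordVal L.y relCox with hF
  have hrun : ∀ {r : List ℕ}, r ∈ rels → L.prodSeq (seqOf U62Mult.pts r) = wordVal L.y r := fun hr =>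
    (L.wordVal_y (rels_lt hr)).symm
  have hF2 : F * F = 1 := by
    have h' := L.run_prod hk0 hws (q := seqOf U62Mult.pts relCox ++ seqOf U62Mult.pts relCox) (r := [])
      (fun i hi => by
        simp only [List.mem_append, or_self] at hi
        exact hbd _ rels_mem.2.2 i hi) U62Mult.cox_run
    rw [L.prodSeq_append, hrun rels_mem.2.2] at h'
    exact h'.symm
  have mHex : relHex ∈ rels := List.mem_append_right _ (by simp)
  have mConj : relConj ∈ rels := List.mem_append_right _ (by simp)
  have hc3 : wordVal L.y relHex ^ 3 = 1 := by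
    have h' := L.run_prod hk0 hws
      (q := seqOf U62Mult.pts relHex ++ seqOf U62Mult.pts relHex ++ seqOf U62Mult.pts relHex) (r := [])
      (fun i hi => by
        simp only [List.mem_append, or_self] at hi
        exact hbd _ mHex i hi) U62Mult.hex_run
    rw [L.prodSeq_append, L.prodSeq_append, hrun mHex] at h'
    rw [pow_succ, pow_two]
    exact h'.symm
  have hconj : wordVal L.y relConj = 1 := by
    have h' := L.run_prod hk0 hws (q := seqOf U62Mult.pts relConj) (r := []) (hbd _ mConj) U62Mult.conj_run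
    rw [hrun mConj] at h'
    exact h'.symm
  have hFc : F ∈ Subgroup.center Q := hπ (MonoidHom.mem_ker.2 (hproj _ rels_mem.2.2))
  -- the image of the extension is normal with abelian quotient
  set N := ι.range
  have hdec : ∀ u : Q, ∃ c : C, (ι c)⁻¹ * u ∈ Subgroup.center Q := fun u => by
    obtain ⟨c, hc⟩ := hs (π u)
    refine ⟨c, hπ ?_⟩
    rw [MonoidHom.mem_ker, map_mul, map_inv, show π (ι c) = σ c from DFunLike.congr_fun hcomp c, hc,
      inv_mul_cancel]
  have : N.Normal := ⟨fun n hn u => by
    obtain ⟨c, hc⟩ := hdec u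
    obtain ⟨m, rfl⟩ := hn
    refine ⟨c * m * c⁻¹, ?_⟩
    have e : u = ι c * ((ι c)⁻¹ * u) := (mul_inv_cancel_left _ _).symm
    rw [e]
    generalize (ι c)⁻¹ * u = k at hc
    rw [map_mul, map_mul, map_inv, mul_inv_rev, mul_assoc (ι c) k, ← Subgroup.mem_center_iff.1 hc (ι m)]
    group⟩
  let m := QuotientGroup.mk' N
  have hab : ∀ u v : Q, m u * m v = m v * m u := fun u v => by
    obtain ⟨c, hc⟩ := hdec u
    have e : m u = m ((ι c)⁻¹ * u) := by
      rw [map_mul, show m (ι c)⁻¹ = 1 from (QuotientGroup.eq_one_iff _).2 (inv_mem ⟨c, rfl⟩), one_mul]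
    rw [e, ← map_mul, ← map_mul, Subgroup.mem_center_iff.1 hc v]
  have hevens := fun r hr => L.evens hk0 hws U62Mult.pairs_run r hr
  have hlet : ∀ g h : ℕ, g < 8 → h < 8 → [g, h, g, h, g, h] ∈ pairRels → m (L.y g) = m (L.y h) := by
    intro g h hg hh hm
    obtain ⟨e, -, -⟩ := hevens _ hm
    simp only [wordVal, gen, if_neg (show g ≠ eps by simp only [eps]; omega),
      if_neg (show h ≠ eps by simp only [eps]; omega), one_mul] at e
    have e' := congrArg m e
    simp only [map_mul, map_one] at e'
    have s1 : m (L.y g) * m (L.y g) = 1 := by rw [← map_mul, L.y_sq, map_one]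
    have s2 : m (L.y h) * m (L.y h) = 1 := by rw [← map_mul, L.y_sq, map_one]
    have hab' : ∀ a b : Q ⧸ N, a * b = b * a := fun a b => by
      obtain ⟨a, rfl⟩ := QuotientGroup.mk'_surjective N a
      obtain ⟨b, rfl⟩ := QuotientGroup.mk'_surjective N b
      exact hab a b
    let _ : CommMonoid (Q ⧸ N) := { (inferInstance : Monoid (Q ⧸ N)) with mul_comm := hab' }
    calc m (L.y g) = m (L.y g) * (m (L.y h) * m (L.y g) * m (L.y h) * m (L.y g) * m (L.y h) * m (L.y g)) := by
          rw [e', mul_one]
      _ = (m (L.y g) * m (L.y g)) * (m (L.y g) * m (L.y g)) * ((m (L.y h) * m (L.y h)) * m (L.y h)) := by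
          ac_rfl
      _ = m (L.y h) := by rw [s1, s2, one_mul, one_mul, one_mul]
  have hall : ∀ g < 8, m (L.y g) = m (L.y 0) := by
    have hp : ∀ p ∈ [(0, 1), (1, 2), (1, 5), (2, 3), (3, 4), (3, 7), (5, 6), (6, 7)],
        m (L.y p.1) = m (L.y p.2) := by
      intro p hp
      have hedge := U62Mult.edges_ok
      simp only [List.all_eq_true, List.any_eq_true] at hedge
      obtain ⟨r, hr, he⟩ := hedge p hp
      rw [← beqW_eq he] at hr
      have hlt' : p.1 < 8 ∧ p.2 < 8 := by
        simp only [List.mem_cons, List.not_mem_nil, or_false] at hp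
        rcases hp with rfl | rfl | rfl | rfl | rfl | rfl | rfl | rfl <;> decide
      exact hlet _ _ hlt'.1 hlt'.2 hr
    simp only [List.mem_cons, List.not_mem_nil, or_false, forall_eq_or_imp, forall_eq] at hp
    obtain ⟨p1, p2, p5, p3, p4, p7, p6, -⟩ := hp
    intro g hg
    interval_cases g
    exacts [rfl, p1.symm, (p1.trans p2).symm, ((p1.trans p2).trans p3).symm,
      (((p1.trans p2).trans p3).trans p4).symm, (p1.trans p5).symm, ((p1.trans p5).trans p6).symm,
      (((p1.trans p2).trans p3).trans p7).symm]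
  have hmF : m F = m (L.y 0) := by
    have hpow : ∀ w : List ℕ, (∀ g ∈ w, g < 8) → m (wordVal L.y w) = m (L.y 0) ^ w.length := by
      intro w
      induction w with
      | nil => intro _; simp [wordVal]
      | cons g w ih =>
        intro hw
        have hg := hw g (by simp)
        rw [wordVal, map_mul, ih fun a ha => hw a (by simp [ha]), gen,
          if_neg (by simp only [eps]; omega), hall g hg, List.length_cons, pow_succ]
    rw [hF, hpow _ (rels_lt rels_mem.2.2), cox_length, pow_succ, pow_mul, pow_two, ← map_mul, L.y_sq,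
      map_one, one_pow, one_mul]
  have hin : ∀ g < 8, F * L.y g ∈ N := fun g hg => by
    refine (QuotientGroup.eq_one_iff _).1 ?_
    show m (F * L.y g) = 1
    rw [map_mul, hmF, hall g hg, ← map_mul, L.y_sq, map_one]
  choose c hc using fun g : Fin 8 => hin g.1 g.2
  let y : ℕ → C := fun g => if h : g < 8 then c ⟨g, h⟩ else 1
  have hy : ∀ g < 8, ι (y g) = F * L.y g := fun g hg => by simp only [y, dif_pos hg]; exact hc _
  have hval : ∀ r ∈ rels, ι (wordVal y r) = F ^ r.length * wordVal L.y r := fun r hr => by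
    rw [map_wordVal, wordVal_congr (y := fun g => F * L.y g) (rels_lt hr) hy]
    exact wordVal_mul_central hFc _ fun g hg => by have := rels_lt hr g hg; simp only [eps]; omega
  have hsig : ∀ g < 8, σ (y g) = xgen g := fun g hg => by
    rw [← DFunLike.congr_fun hcomp (y g), MonoidHom.comp_apply, hy g hg, map_mul, hproj _ rels_mem.2.2,
      one_mul, L.proj_y (show g < U62Mult.transTab.k from hg)]
    rfl
  have hrelker : ∀ r ∈ rels, wordVal y r ∈ Subgroup.zpowers d := fun r hr => by
    rw [← hk, MonoidHom.mem_ker, map_wordVal, wordVal_congr (rels_lt hr) hsig]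
    exact U62Mult.xgen_rel r hr
  have hev : ∀ r ∈ rels, r ≠ relCox → F ^ r.length = 1 := by
    intro r hr hne
    obtain ⟨l, hl⟩ := plain_even hr hne
    rw [hl, ← two_mul, pow_mul, pow_two, hF2, one_pow]
  have hplain : ∀ r ∈ plainRels, wordVal y r = 1 := by
    intro r hr
    have hr' := plain_mem hr
    apply hι
    rw [hval r hr', map_one]
    by_cases hne : r = relCox
    · subst hne
      rw [cox_length, pow_succ, pow_mul, pow_two, hF2, one_pow, one_mul, ← hF, hF2]
    rw [hev r hr' hne, one_mul]
    simp only [plainRels, List.mem_append, List.mem_cons, List.not_mem_nil, or_false] at hr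
    rcases hr with h | h | h | h | h
    · exact (hevens r h).1
    · rw [h]; exact hconj
    · exact absurd h hne
    · subst h
      have h1 := hval relHex hr'
      rw [hev _ hr' hne, one_mul] at h1
      rcases zpowers_cases hd2 (hrelker _ hr') with e | e
      · rw [← h1, e, map_one]
      · exfalso
        have h3 : ι (wordVal y relHex ^ 3) = ι 1 := by rw [map_pow, h1, hc3, map_one]
        have := hι h3
        rw [e, pow_succ, pow_two, hd2, one_mul] at this
        exact hdne this
    · rw [h]; rfl
  set H := Subgroup.closure (y '' {g | g < 8})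
  have hgen : H = ⊤ := by
    have hsup : H ⊔ σ.ker = ⊤ := by
      rw [← Subgroup.comap_map_eq, eq_top_iff]
      intro u _
      rw [Subgroup.mem_comap]
      have : H.map σ = ⊤ := by
        rw [eq_top_iff, ← U62Mult.xgen_closure, Subgroup.closure_le]
        rintro _ ⟨g, hg, rfl⟩
        exact ⟨y g, Subgroup.subset_closure ⟨g, hg, rfl⟩, hsig g hg⟩
      rw [this]; trivial
    rw [eq_top_iff, ← hperf, commutator_def, Subgroup.commutator_le]
    intro u _ v _
    obtain ⟨h, hh, k, hk', rfl⟩ := Subgroup.mem_sup_of_normal_right.1 (hsup ▸ Subgroup.mem_top u)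
    obtain ⟨h', hh', k', hk'', rfl⟩ := Subgroup.mem_sup_of_normal_right.1 (hsup ▸ Subgroup.mem_top v)
    have cc : ∀ {k : C}, k ∈ σ.ker → ∀ w, w * k = k * w := fun hk₀ w =>
      Subgroup.mem_center_iff.1 (Subgroup.zpowers_le.2 hd (hk ▸ hk₀)) w
    have e : ⁅h * k, h' * k'⁆ = ⁅h, h'⁆ := by
      rw [commutatorElement_def, commutatorElement_def]
      calc h * k * (h' * k') * (h * k)⁻¹ * (h' * k')⁻¹
          = h * (k * h') * k' * k⁻¹ * h⁻¹ * k'⁻¹ * h'⁻¹ := by group
        _ = h * h' * (k * k') * k⁻¹ * h⁻¹ * k'⁻¹ * h'⁻¹ := by rw [← cc hk' h']; group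
        _ = h * h' * (k' * k) * k⁻¹ * h⁻¹ * k'⁻¹ * h'⁻¹ := by rw [cc hk'' k]
        _ = h * h' * (k' * h⁻¹) * k'⁻¹ * h'⁻¹ := by group
        _ = h * h' * h⁻¹ * h'⁻¹ := by rw [← cc hk'' h⁻¹]; group
    rw [e, commutatorElement_def]
    exact mul_mem (mul_mem (mul_mem hh hh') (inv_mem hh)) (inv_mem hh')
  refine ⟨⟨⟨y, fun g => ?_, hplain, hrelker _ rels_mem.1, hrelker _ rels_mem.2.1, hd, hd2, hdne, hgen, ?_⟩,
    σ, hsig, hk⟩⟩
  · by_cases hg : g < 8
    · exact sq_of_plain hplain hg
    · simp [y, hg]
  · rw [Subgroup.card_eq_card_quotient_mul_card_subgroup σ.ker,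
      Nat.card_congr (QuotientGroup.quotientKerEquivOfSurjective σ hs).toEquiv,
      U62Mult.nonempty_equiv_psu.2, hk, Nat.card_zpowers, orderOf_eq_prime (by rw [pow_two]; exact hd2) hdne]

end Cfsg.Lib.CosetEnum.U62Double
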